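import Cfsg.Agent.H96.Rad2.Tool
import Cfsg.Agent.J4.Invol
import Cfsg.Agent.J4Type.Final
import Cfsg.Agent.S2068
import Cfsg.Agent.S1703

/-!
# Involutions of the fourth Janko group (helper96, for S3832, S4336)

Every involution is conjugate to `s` or `d`; in the representation of degree 112 the elements `s · s^g`, `d · d^h`
have order 11 and 5 (`g = t y t`, `h = y t`).
-/

set_option autoImplicit false
set_option maxRecDepth 100000

namespace Cfsg.Agent.H96.Rad2

open Subgroup Cfsg Cfsg.Agent.H459.Rad Cfsg.Agent.H483.Rad23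

namespace JFour

open Cfsg.Agent.Lib Cfsg.Agent.Lib.F2MatGroup Cfsg.Agent.J4.Rep112 Cfsg.Agent.J4.Lower Cfsg.Agent.J4.Invol
open Cfsg.Agent.J4.Beta Cfsg.Agent.J4.NonConjData Cfsg.Agent.J4.NonConj Cfsg.Agent.J4.RepData

theorem codes_s : List.Forall₂ (Codes 112) ([x, y, y⁻¹, t, s].map rho) [X, Y, YI, T, Zc] := by
  simp only [List.map_cons, List.map_nil, map_inv, rho_x, rho_y, rho_t, rho_s]
  exact .cons cx (.cons cy (.cons cy' (.cons ct (.cons codes_ZD.1 .nil))))

theorem codes_d : List.Forall₂ (Codes 112) ([x, y, y⁻¹, t, d].map rho) [X, Y, YI, T, Dc] := by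
  simp only [List.map_cons, List.map_nil, map_inv, rho_x, rho_y, rho_t, rho_d]
  exact .cons cx (.cons cy (.cons cy' (.cons ct (.cons codes_ZD.2 .nil))))

theorem chk_s : check 112 [X, Y, YI, T, Zc] [[4, 3, 1, 3, 4, 3, 2, 3]] [([0, 0, 0, 0, 0, 0, 0, 0, 0, 0, 0], []),
    ([5, 5], []), ([4, 4], [])] [([0], [])] = true := by decide +kernel

theorem chk_d : check 112 [X, Y, YI, T, Dc] [[4, 1, 3, 4, 3, 2]] [([0, 0, 0, 0, 0], []), ([5, 5], []), ([4, 4], [])]
    [([0], [])] = true := by decide +kernel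

/-- the word of `s s^g` -/
theorem word_s {G H : Type*} [Group G] [Group H] (f : G →* H) {s t y : G} (hs : f s * (f s * 1) = 1)
    (ht : f t * (f t * 1) = 1) : f s * (f t * (f y * (f t * (f s * (f t * (f y⁻¹ * (f t * 1))))))) =
      f (s * (t * y * t) * s⁻¹ * (t * y * t)⁻¹) := by
  rw [mul_one] at hs ht
  simp only [map_mul, map_inv, mul_inv_rev]
  rw [inv_eq_of_mul_eq_one_left hs, inv_eq_of_mul_eq_one_left ht, mul_one]
  group

/-- the word of `d d^g` -/
theorem word_d {G H : Type*} [Group G] [Group H] (f : G →* H) {s t y : G} (hs : f s * (f s * 1) = 1)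
    (ht : f t * (f t * 1) = 1) : f s * (f y * (f t * (f s * (f t * (f y⁻¹ * 1))))) =
      f (s * (y * t) * s⁻¹ * (y * t)⁻¹) := by
  rw [mul_one] at hs ht
  simp only [map_mul, map_inv, mul_inv_rev]
  rw [inv_eq_of_mul_eq_one_left hs, inv_eq_of_mul_eq_one_left ht, mul_one]
  group

theorem order_of_eleven {H : Type*} [Group H] {a c : H} (h : a = c)
    (h1 : a * (a * (a * (a * (a * (a * (a * (a * (a * (a * (a * 1)))))))))) = 1) (h2 : a * 1 ≠ 1) :
    orderOf c = 11 := by
  have : Fact (Nat.Prime 11) := ⟨by norm_num⟩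
  rw [← h]
  rw [mul_one] at h2
  refine orderOf_eq_prime ?_ h2
  rw [← h1]
  simp only [pow_succ, pow_zero, one_mul, mul_one, mul_assoc]

theorem order_of_five {H : Type*} [Group H] {a c : H} (h : a = c)
    (h1 : a * (a * (a * (a * (a * 1)))) = 1) (h2 : a * 1 ≠ 1) : orderOf c = 5 := by
  have : Fact (Nat.Prime 5) := ⟨by norm_num⟩
  rw [← h]
  rw [mul_one] at h2
  refine orderOf_eq_prime ?_ h2
  rw [← h1]
  simp only [pow_succ, pow_zero, one_mul, mul_one, mul_assoc]

theorem order_s : orderOf (rho (s * (t * y * t) * s⁻¹ * (t * y * t)⁻¹)) = 11 := by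
  obtain ⟨h1, h2⟩ := check_sound (n := 112) (by norm_num) codes_s chk_s
  exact order_of_eleven (word_s rho (h1 ([5, 5], []) (by simp)) (h1 ([4, 4], []) (by simp)))
    (h1 ([0, 0, 0, 0, 0, 0, 0, 0, 0, 0, 0], []) (by simp)) (h2 ([0], []) (by simp))

theorem order_d : orderOf (rho (d * (y * t) * d⁻¹ * (y * t)⁻¹)) = 5 := by
  obtain ⟨h1, h2⟩ := check_sound (n := 112) (by norm_num) codes_d chk_d
  exact order_of_five (word_d rho (h1 ([5, 5], []) (by simp)) (h1 ([4, 4], []) (by simp)))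
    (h1 ([0, 0, 0, 0, 0], []) (by simp)) (h2 ([0], []) (by simp))

end JFour

theorem row2_j4 {K : Type*} [Group K] [Finite K] [IsSimpleGroup K] (h : Cfsg.Spor.IsoJ4 K) :
    Cfsg.Agent.H483.Rad23.Row23 2 K := by
  obtain ⟨e⟩ := h
  have hfin : Finite Cfsg.Spor.J4 := Finite.of_equiv K e.toEquiv
  refine row_of_inn e (inner_of_card Cfsg.Agent.S2068.result) fun hc a ha _ _ hT => ?_
  have haa : a * a = 1 := by
    have := pow_orderOf_eq_one a
    rwa [ha, pow_two] at this
  have ha1 : a ≠ 1 := by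
    rintro rfl
    rw [orderOf_one] at ha
    norm_num at ha
  rcases Cfsg.Agent.J4Type.Final.invol Cfsg.Agent.S1703.result a haa ha1 with h1 | h1
  · exact false_of_map hc Cfsg.Agent.J4.Rep112.rho (tt_isConj hT h1) _ (l := 11) (by norm_num) (by norm_num)
      (dvd_of_eq JFour.order_s.symm)
  · exact false_of_map hc Cfsg.Agent.J4.Rep112.rho (tt_isConj hT h1) _ (l := 5) (by norm_num) (by norm_num)
      (dvd_of_eq JFour.order_d.symm)

end Cfsg.Agent.H96.Rad2
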