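import Cfsg.Agent.H96.Rad2.Tool
import Cfsg.Agent.TypeM.OutLyFin

/-!
# Involutions of the Lyons group (helper96, for S3832, S4336)

One class of involutions; `C(t) = 2.A₁₁` contains an involution `u ≠ t`, and the radical of `C(t)` is `⟨t⟩`.
-/

set_option autoImplicit false

namespace Cfsg.Agent.H96.Rad2

open Subgroup Cfsg Cfsg.Agent.H459.Rad Cfsg.Agent.H483.Rad23 Cfsg.Agent.H839.Rad
open Cfsg.Agent.TypeM.Two Cfsg.Agent.Ly.Final Cfsg.Agent.Ly.Pres

namespace Ly

/-- one class of involutions, `C(t) = 2.A_n` -/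
theorem false_of_cover {G : Type*} [Group G] [Finite G] [IsSimpleGroup G] (hc : center G = ⊥) {n : ℕ} (hn5 : 5 ≤ n)
    (hn : n < 16) (t : G) (ht : orderOf t = 2)
    (hcov : Cfsg.IsNonsplitDoubleCover (centralizer ({t} : Set G)) (alternatingGroup (Fin n)))
    {x : G} (hx : orderOf x = 2) (hR : RC (MulAut.conj x)) : False := by
  obtain ⟨-, π, h, u, huu, hu1, hut, hcomm, -⟩ := Cfsg.Agent.SporRec.LyReduce.reduce n hn5 t ht hcov
  obtain ⟨L, hL⟩ := exists_mt hn5 hn t ht hcov
  obtain ⟨hxx, hx1⟩ := MT.sq_of_orderOf hx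
  obtain ⟨g, hg⟩ := L.conj_of_involutions hxx hx1 huu hu1
  have hRu : RC (MulAut.conj u) := hg ▸ rc_conj hR g
  have huo : orderOf u = 2 := orderOf_eq_prime (by rw [pow_two, huu]) hu1
  have htc : t ∉ center G := by
    rw [hc, mem_bot]
    rintro rfl
    rw [orderOf_one] at ht
    norm_num at ht
  have hs : IsSimpleGroup ↥(alternatingGroup (Fin n)) := alternatingGroup.isSimpleGroup (by simpa using hn5)
  have hns : ¬ Group.IsSolvable ↥(alternatingGroup (Fin n)) := by
    intro hsol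
    have h7 := (IsSimpleGroup.comm_iff_isSolvable (G := ↥(alternatingGroup (Fin n)))).mpr hsol
    have h8 : Subgroup.center ↥(alternatingGroup (Fin n)) = ⊤ := by
      rw [eq_top_iff]
      intro z _
      rw [Subgroup.mem_center_iff]
      intro g
      exact h7 g z
    rw [alternatingGroup.center_eq_bot (by simp; omega)] at h8
    exact bot_ne_top h8
  have h1 : u ∈ zpowers t := by
    refine mem_zpowers_of_large huo hRu htc hcomm fun v hv hvr => ?_
    refine large_of_quotient Nat.prime_two π h.surj ?_ (RadFree.of_simple (by norm_num) hns) v hv hvr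
    intro w hw
    rcases (h.ker w).1 hw with rfl | rfl
    · exact one_mem _
    · exact mem_zpowers t
  obtain ⟨k, hk⟩ := mem_zpowers_iff.1 h1
  have htt : t ^ (2 : ℤ) = 1 := by
    have := pow_orderOf_eq_one t
    rw [ht] at this
    exact_mod_cast this
  rcases Int.even_or_odd' k with ⟨m, rfl | rfl⟩
  · rw [zpow_mul, htt, one_zpow] at hk
    exact hu1 hk.symm
  · rw [zpow_add, zpow_mul, htt, one_zpow, one_mul, zpow_one] at hk
    exact hut hk.symm

end Ly

theorem row2_ly {K : Type*} [Group K] [Finite K] [IsSimpleGroup K] (h : Cfsg.Spor.IsoLy K) :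
    Cfsg.Agent.H483.Rad23.Row23 2 K := by
  obtain ⟨e⟩ := h
  have hfin : Finite Cfsg.Spor.Ly := Finite.of_equiv K e.toEquiv
  have hs : IsSimpleGroup Cfsg.Spor.Ly := Cfsg.Agent.Ly.Setup.isSimple_ly
  refine row_of_inn e (fun x => ?_) fun hc a ha hR _ _ => ?_
  · obtain ⟨a, ha⟩ := Cfsg.Agent.TypeM.OutLyFin.inner_ly x
    exact ⟨a, ha.symm⟩
  · exact Ly.false_of_cover hc (n := 11) (by norm_num) (by norm_num) _ (tw_order hs)
      Cfsg.Agent.TypeM.FactsLy.isNonsplit_ly ha hR

end Cfsg.Agent.H96.Rad2
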