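import Cfsg.Agent.H96.Rad2.Tool
import Cfsg.Agent.H661.SporTh
import Cfsg.Agent.MonsterX.ThOneClass
import Cfsg.Agent.KFacts.Th.Main

/-!
# Involutions of the Thompson group (helper96, for S3832, S4336)

One class of involutions; two of them have a product of order 13 (in `³D₄(2)`).
-/

set_option autoImplicit false

namespace Cfsg.Agent.H96.Rad2

open Subgroup Cfsg Cfsg.Agent.H459.Rad Cfsg.Agent.H483.Rad23

namespace Th

open Cfsg.Agent.Th.Base Cfsg.Agent.Th.Word Cfsg.Agent.Th.PermTab Cfsg.Agent.Th.KOracle Cfsg.Agent.Th.D4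
  Cfsg.Agent.Th.D4Perm Cfsg.Agent.H661.Spor.Th

theorem exists_pair : ∃ s t : Cfsg.Spor.Th, s * s = 1 ∧ t * t = 1 ∧ s ≠ 1 ∧ (s * t) ^ 13 = 1 ∧ s * t ≠ 1 := by
  have hc : Nat.card (Subgroup.closure ({Cfsg.Agent.Th.IndexUpper.gTh 1, Cfsg.Agent.Th.IndexUpper.gTh 2,
      Cfsg.Agent.Th.IndexUpper.gTh 3, Cfsg.Agent.Th.IndexUpper.gTh 4, Cfsg.Agent.Th.IndexUpper.gTh 5,
      Cfsg.Agent.Th.IndexUpper.gTh 6, Cfsg.Agent.Th.IndexUpper.gTh 8} : Set Cfsg.Spor.Th)) = 634023936 := by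
    rw [← sub_isK_eq Cfsg.Agent.Th.IndexUpper.gTh_inv]
    exact Cfsg.Agent.Th.Final.main.2.2.1
  obtain ⟨e⟩ := Cfsg.Agent.Th.D4Main.equiv_PL Cfsg.Agent.Th.IndexUpper.gTh_relK hc
  set s0 : PL := ⟨ev (rho isTab) [4], ev_mem (by decide)⟩ with hs0
  set t0 : PL := ⟨ev (rho isTab) w, ev_mem (by decide)⟩ with ht0
  have h1 : s0 * s0 = 1 := by
    apply Subtype.ext
    show ev (rho isTab) [4] * ev (rho isTab) [4] = 1
    rw [← ev_append]
    exact eq_one (by decide) chk_s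
  have h2 : t0 * t0 = 1 := by
    apply Subtype.ext
    show ev (rho isTab) w * ev (rho isTab) w = 1
    rw [← ev_append]
    exact eq_one (by decide) chk_w
  have h3 : (s0 * t0) ^ 13 = 1 := by
    apply Subtype.ext
    show (ev (rho isTab) [4] * ev (rho isTab) w) ^ 13 = 1
    rw [← ev_append]
    show ev (rho isTab) v ^ 13 = 1
    rw [← ev_rp]
    exact eq_one isK_rp chk_v
  have h4 : s0 * t0 ≠ 1 := by
    intro h
    have h1 : ev (rho isTab) [4] * ev (rho isTab) w = 1 := congrArg Subtype.val h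
    rw [← ev_append] at h1
    have h2 := ev_rho_inv_apply isTab (w := v) (by decide) (0 : Fin 819)
    rw [show ev (rho isTab) v = 1 from h1, inv_one] at h2
    exact Nat.ne_of_beq_eq_false ne_v h2.symm
  have h5 : s0 ≠ 1 := by
    intro h
    rw [h, one_mul] at h3 h4
    have h6 : t0 ^ 13 = t0 := by
      rw [show (13 : ℕ) = 2 * 6 + 1 from rfl, pow_succ, pow_mul, pow_two, h2, one_pow, one_mul]
    exact h4 (h6.symm.trans h3)
  let f : PL →* Cfsg.Spor.Th := (Subgroup.subtype _).comp e.symm.toMonoidHom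
  have hf : Function.Injective f := (Subgroup.subtype_injective _).comp e.symm.injective
  refine ⟨f s0, f t0, ?_, ?_, ?_, ?_, ?_⟩
  · rw [← map_mul, h1, map_one]
  · rw [← map_mul, h2, map_one]
  · exact fun h => h5 (hf (h.trans (map_one f).symm))
  · rw [← map_mul, ← map_pow, h3, map_one]
  · rw [← map_mul]
    exact fun h => h4 (hf (h.trans (map_one f).symm))

end Th

theorem row2_th {K : Type*} [Group K] [Finite K] [IsSimpleGroup K] (h : Cfsg.Spor.IsoTh K) :
    Cfsg.Agent.H483.Rad23.Row23 2 K := by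
  obtain ⟨e⟩ := h
  have hfin : Finite Cfsg.Spor.Th := Finite.of_equiv K e.toEquiv
  refine row_of_inn e Cfsg.Agent.KFacts.Th.Main.inner fun hc a ha _ _ hT => ?_
  obtain ⟨s, t, hs, ht, hs1, h1, h2⟩ := Th.exists_pair
  exact false_of_oneClass hc Cfsg.Agent.MonsterX.ThOneClass.oneClass hs hs1 ht (by norm_num) (by norm_num) h1 h2 ha hT

end Cfsg.Agent.H96.Rad2
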